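import Cfsg.Agent.Lib.GWKlein.OrderFormula
import Cfsg.Agent.Lib.Transfer.Residual
import Cfsg.Agent.Lib.Involution.KleinFour
import Cfsg.Agent.S0111
import Mathlib.GroupTheory.Transfer
import Mathlib.GroupTheory.FixedPointFree

/-!
# Groups with a dihedral centraliser of order eight and two classes of involutions

If `C(z)` is dihedral of order eight, the involutions of one four-group in it are marked by an invariant predicate
whose elements have centralisers without odd elements, the other involutions of `C(z)` are not marked, and five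
divides the order, then the order is 120.

* `OctData.card_eq`
-/

set_option autoImplicit false

namespace Cfsg.Agent.CoThreeClose

open Subgroup

variable {Q : Type*} [Group Q] [Finite Q]

/-- The hypotheses: `z` is a square in its centraliser of order eight, `c` and `τ` are involutions there. -/
structure OctData (z c τ : Q) (P : Q → Prop) : Prop where
  conj : ∀ g x : Q, P x → P (g * x * g⁻¹)
  order_z : orderOf z = 2
  order_c : orderOf c = 2
  order_τ : orderOf τ = 2
  ne : c ≠ z
  comm_c : Commute c z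
  comm_τ : Commute τ z
  card : Nat.card (centralizer ({z} : Set Q)) = 8
  root : ∃ r : Q, r * r = z
  squares : ∀ a : Q, Commute a z → a * a = 1 ∨ a * a = z
  invols : ∀ w : Q, Commute w z → w * w = 1 →
    w = 1 ∨ w = z ∨ w = c ∨ w = z * c ∨ w = τ ∨ w = z * τ
  pos_z : P z
  pos_c : P c
  pos_zc : P (z * c)
  neg_τ : ¬ P τ
  two : ∀ x : Q, orderOf x = 2 → P x → ∀ v : Q, Commute v x → Odd (orderOf v) → v = 1
  five : 5 ∣ Nat.card Q

theorem eq_one_of_inverted {N : Subgroup Q} (hN : ∀ x ∈ N, Odd (orderOf x)) {a : Q} (ha : orderOf a = 2)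
    (hmem : ∀ x ∈ N, a * x * a⁻¹ ∈ N) (hfix : ∀ v : Q, Commute v a → Odd (orderOf v) → v = 1) :
    ∀ x ∈ N, a * x * a⁻¹ = x⁻¹ := by
  have haa : a * a = 1 := by rw [← pow_two, ← ha, pow_orderOf_eq_one]
  let φ : ↥N →* ↥N :=
    { toFun := fun x => ⟨a * x * a⁻¹, hmem x x.2⟩
      map_one' := by ext; simp
      map_mul' := fun x y => by ext; simp [mul_assoc] }
  have hfpf : MonoidHom.FixedPointFree φ := fun x hx => by
    have h1 : a * (x : Q) * a⁻¹ = x := congrArg Subtype.val hx
    exact Subtype.ext (hfix x (show (x : Q) * a = a * x by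
      conv_lhs => rw [← h1]
      rw [inv_mul_cancel_right]) (hN x x.2))
  have hinv : Function.Involutive φ := fun x => by
    refine Subtype.ext ?_
    show a * (a * (x : Q) * a⁻¹) * a⁻¹ = x
    rw [inv_eq_of_mul_eq_one_right haa, ← mul_assoc, ← mul_assoc, haa, one_mul, mul_assoc, haa, mul_one]
  intro x hx
  exact congrArg Subtype.val (congrFun (hfpf.coe_eq_inv_of_involutive hinv) ⟨x, hx⟩)

namespace OctData

variable {z c τ : Q} {P : Q → Prop}

theorem z_sq (h : OctData z c τ P) : z * z = 1 := by
  rw [← pow_two, ← h.order_z, pow_orderOf_eq_one]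

theorem c_sq (h : OctData z c τ P) : c * c = 1 := by
  rw [← pow_two, ← h.order_c, pow_orderOf_eq_one]

theorem zc_order (h : OctData z c τ P) : orderOf (z * c) = 2 := by
  refine orderOf_eq_prime ?_ fun e => h.ne ?_
  · rw [pow_two, show z * c * (z * c) = z * (c * z) * c by group, h.comm_c.eq,
      show z * (z * c) * c = z * z * (c * c) by group, h.z_sq, h.c_sq, one_mul]
  · rw [← mul_inv_eq_one]
    rw [inv_eq_of_mul_eq_one_right h.z_sq, h.comm_c.eq, e]

theorem sylow (h : OctData z c τ P) :
    ∃ S : Sylow 2 Q, (S : Subgroup Q) = centralizer ({z} : Set Q) := by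
  haveI : Fact (Nat.Prime 2) := ⟨Nat.prime_two⟩
  set T := centralizer ({z} : Set Q)
  have hT : Nat.card T = 2 ^ 3 := h.card
  obtain ⟨S, hS⟩ := (IsPGroup.of_card hT).exists_le_sylow
  refine ⟨S, le_antisymm ?_ hS⟩
  by_contra hle
  obtain ⟨k, hk⟩ := IsPGroup.iff_card.mp S.2
  have hdvd : 2 ^ 4 ∣ Nat.card Q := by
    have h1 : Nat.card T < Nat.card (S : Subgroup Q) := by
      refine lt_of_le_of_ne (card_le_of_le hS) fun e => hle ?_
      exact (eq_of_le_of_card_ge hS (le_of_eq e.symm)).symm.le
    rw [hT, hk] at h1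
    have h4 : 4 ≤ k := by
      by_contra hlt
      have := Nat.pow_le_pow_right (show 1 ≤ 2 by norm_num) (show k ≤ 3 by omega)
      omega
    exact (Nat.pow_dvd_pow 2 h4).trans (hk ▸ card_subgroup_dvd_card _)
  have h2 := Sylow.prime_dvd_card_quotient_normalizer (p := 2) (n := 3) hdvd hT
  have hNT : normalizer (T : Set Q) ≤ T := by
    intro g hg
    obtain ⟨r, hr⟩ := h.root
    have hrT : r ∈ T := mem_centralizer_singleton_iff.2 (by rw [← hr, mul_assoc])
    have hgr : g * r * g⁻¹ ∈ T := (mem_normalizer_iff.1 hg r).1 hrT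
    have hgz : g * z * g⁻¹ = g * r * g⁻¹ * (g * r * g⁻¹) := by rw [← hr]; group
    rcases h.squares _ (mem_centralizer_singleton_iff.1 hgr) with e | e
    · rw [← hgz] at e
      have : z = 1 := by
        calc z = g⁻¹ * (g * z * g⁻¹) * g := by group
          _ = 1 := by rw [e]; group
      exact absurd h.order_z (by rw [this, orderOf_one]; norm_num)
    · rw [← hgz] at e
      exact mem_centralizer_singleton_iff.2 (mul_inv_eq_iff_eq_mul.1 e)
  have hsub : comap (normalizer (T : Set Q)).subtype T = ⊤ := by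
    rw [eq_top_iff]; rintro ⟨x, hx⟩ -; exact hNT hx
  have h1 : Nat.card (normalizer (T : Set Q) ⧸ comap (normalizer (T : Set Q)).subtype T) = 1 := by
    rw [← Subgroup.index_eq_card, hsub, index_top]
  rw [h1] at h2
  exact absurd h2 (by norm_num)

/-- An odd-order subgroup normalised by `z` and `c` is trivial. -/
theorem odd_eq_bot (h : OctData z c τ P) {N : Subgroup Q} (hN : ∀ x ∈ N, Odd (orderOf x))
    (hz : ∀ x ∈ N, z * x * z⁻¹ ∈ N) (hc : ∀ x ∈ N, c * x * c⁻¹ ∈ N) : N = ⊥ := by
  refine (eq_bot_iff_forall _).2 fun x hx => ?_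
  have h1 := eq_one_of_inverted hN h.order_z hz (h.two z h.order_z h.pos_z)
  have h2 := eq_one_of_inverted hN h.order_c hc (h.two c h.order_c h.pos_c)
  refine h.two _ h.zc_order h.pos_zc x ?_ (hN x hx)
  show x * (z * c) = z * c * x
  have e : z * c * x * (z * c)⁻¹ = x := by
    calc z * c * x * (z * c)⁻¹ = z * (c * x * c⁻¹) * z⁻¹ := by group
      _ = (z * x * z⁻¹)⁻¹ := by rw [h2 x hx]; group
      _ = x := by rw [h1 x hx, inv_inv]
  conv_lhs => rw [← e]
  rw [inv_mul_cancel_right]

/-- A normal subgroup with a normal 2-complement has order equal to its 2-part. -/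
theorem card_of_complement (h : OctData z c τ P) {M : Subgroup Q} (hM : M.Normal) {S : Sylow 2 M}
    {K : Subgroup M} [hK : K.Normal] (hKS : K.IsComplement' (S : Subgroup M)) :
    Nat.card M = Nat.card (S : Subgroup M) := by
  haveI : Fact (Nat.Prime 2) := ⟨Nat.prime_two⟩
  have hmem : ∀ x : M, x ∈ K ↔ (orderOf x).Coprime 2 :=
    Transfer.mem_iff_coprime_orderOf (Transfer.coprime_card_of_isComplement' S hKS)
      (Transfer.index_of_isComplement' S hKS).choose_spec
  let N : Subgroup Q := K.map M.subtype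
  have hNodd : ∀ x ∈ N, Odd (orderOf x) := by
    rintro _ ⟨y, hy, rfl⟩
    rw [coe_subtype, orderOf_coe]
    exact Nat.coprime_two_right.1 ((hmem y).1 hy)
  have hNnorm : ∀ a : Q, ∀ x ∈ N, a * x * a⁻¹ ∈ N := by
    rintro a _ ⟨y, hy, rfl⟩
    refine ⟨⟨a * y * a⁻¹, hM.conj_mem _ y.2 a⟩, (hmem _).2 ?_, rfl⟩
    have : orderOf (⟨a * y * a⁻¹, hM.conj_mem _ y.2 a⟩ : M) = orderOf y := by
      rw [← orderOf_coe, ← orderOf_coe y]
      exact orderOf_injective (MulAut.conj a).toMonoidHom (MulAut.conj a).injective _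
    rw [this]; exact (hmem y).1 hy
  have hbot : K = ⊥ := by
    rw [← map_eq_bot_iff_of_injective K M.subtype_injective]
    exact h.odd_eq_bot hNodd (hNnorm z) (hNnorm c)
  rw [← hKS.card_mul, hbot, card_bot, one_mul]

theorem card_eq (h : OctData z c τ P) : Nat.card Q = 120 := by
  classical
  haveI : Fact (Nat.Prime 2) := ⟨Nat.prime_two⟩
  obtain ⟨S, hS⟩ := h.sylow
  set T := centralizer ({z} : Set Q) with hTdef
  have hzT : z ∈ T := mem_centralizer_singleton_iff.2 rfl
  have hcT : c ∈ T := mem_centralizer_singleton_iff.2 h.comm_c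
  have hτT : τ ∈ T := mem_centralizer_singleton_iff.2 h.comm_τ
  -- the marked four-group
  let V : Subgroup Q :=
    { carrier := {x | x = 1 ∨ x = z ∨ x = c ∨ x = z * c}
      one_mem' := Or.inl rfl
      mul_mem' := by
        have e1 : c * z = z * c := h.comm_c.eq
        have e2 : z * (z * c) = c := by rw [← mul_assoc, h.z_sq, one_mul]
        have e3 : c * (z * c) = z := by rw [← mul_assoc, e1, mul_assoc, h.c_sq, mul_one]
        have e4 : z * c * z = c := by rw [mul_assoc, e1, e2]
        have e5 : z * c * c = z := by rw [mul_assoc, h.c_sq, mul_one]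
        have e6 : z * c * (z * c) = 1 := by rw [← mul_assoc, e4, h.c_sq]
        rintro a b (rfl | rfl | rfl | rfl) (rfl | rfl | rfl | rfl) <;>
          simp only [Set.mem_ofPred_eq, one_mul, mul_one, h.z_sq, h.c_sq, e1, e2, e3, e4, e5, e6,
            true_or, or_true]
      inv_mem' := by
        rintro a (rfl | rfl | rfl | rfl)
        · exact Or.inl inv_one
        · exact Or.inr (Or.inl (inv_eq_of_mul_eq_one_right h.z_sq))
        · exact Or.inr (Or.inr (Or.inl (inv_eq_of_mul_eq_one_right h.c_sq)))
        · refine Or.inr (Or.inr (Or.inr (inv_eq_of_mul_eq_one_right ?_)))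
          rw [← pow_two, ← h.zc_order, pow_orderOf_eq_one] }
  have hVT : V ≤ T := by
    rintro x (rfl | rfl | rfl | rfl)
    exacts [one_mem _, hzT, hcT, mul_mem hzT hcT]
  have hτV : ¬ τ ∈ V := by
    rintro (e | e | e | e)
    · have := h.order_τ; rw [e, orderOf_one] at this; omega
    · exact h.neg_τ (e ▸ h.pos_z)
    · exact h.neg_τ (e ▸ h.pos_c)
    · exact h.neg_τ (e ▸ h.pos_zc)
  have hVcard : Nat.card V = 4 := by
    have hset : (V : Set Q) = ↑({1, z, c, z * c} : Finset Q) := by
      ext x; simp [V]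
    have hz1 : z ≠ 1 := fun e => by have := h.order_z; rw [e, orderOf_one] at this; omega
    have hc1 : c ≠ 1 := fun e => by have := h.order_c; rw [e, orderOf_one] at this; omega
    have hzc1 : z * c ≠ 1 := fun e => by have := h.zc_order; rw [e, orderOf_one] at this; omega
    rw [show Nat.card V = (V : Set Q).ncard from Nat.card_coe_set_eq _, hset, Set.ncard_coe_finset]
    rw [Finset.card_insert_of_notMem, Finset.card_insert_of_notMem, Finset.card_pair]
    · exact fun e => hz1 (mul_eq_right.1 e.symm)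
    · simp only [Finset.mem_insert, Finset.mem_singleton, not_or]
      exact ⟨h.ne.symm, fun e => hc1 (mul_eq_left.1 e.symm)⟩
    · simp only [Finset.mem_insert, Finset.mem_singleton, not_or]
      exact ⟨hz1.symm, hc1.symm, hzc1.symm⟩
  -- a subgroup of index two without `τ`
  have hrel : V.relIndex (S : Subgroup Q) = 2 := by
    rw [hS]
    have e := relIndex_mul_relIndex ⊥ V T bot_le hVT
    rw [relIndex_bot_left, relIndex_bot_left, hVcard, h.card] at e
    omega
  obtain ⟨M, hM, hMi, hτM⟩ := (S0111.result S V (hS ▸ hVT) hrel τ h.order_τ (hS ▸ hτT) hτV).resolve_right (by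
    rintro ⟨g, hg⟩
    refine h.neg_τ ?_
    have hPg : P (g * τ * g⁻¹) := by
      rcases hg with e | e | e | e
      · exfalso
        have : τ = 1 := by
          calc τ = g⁻¹ * (g * τ * g⁻¹) * g := by group
            _ = 1 := by rw [e]; group
        have h2 := h.order_τ
        rw [this, orderOf_one] at h2; omega
      all_goals rw [e]
      exacts [h.pos_z, h.pos_c, h.pos_zc]
    simpa [mul_assoc] using h.conj g⁻¹ _ hPg)
  have hzM : z ∈ M := by
    obtain ⟨r, hr⟩ := h.root
    rw [← hr]; exact mul_self_mem_of_index_two hMi r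
  have hzτM : z * τ ∉ M := fun e => hτM ((mul_mem_cancel_left hzM).1 e)
  have hcardQ : Nat.card Q = 2 * Nat.card M := by rw [← card_mul_index M, hMi, mul_comm]
  -- its Sylow subgroup
  have hTM : Nat.card ((T ⊓ M : Subgroup Q)) = 4 := by
    have h1 : ¬ T ≤ M := fun hle => hτM (hle hτT)
    have h2 : M.relIndex T ∣ 2 := hMi ▸ relIndex_dvd_index_of_normal M T
    have h3 : M.relIndex T = 2 :=
      ((Nat.dvd_prime Nat.prime_two).1 h2).resolve_left fun e => h1 (relIndex_eq_one.1 e)
    have e := relIndex_mul_relIndex ⊥ (M ⊓ T) T bot_le inf_le_right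
    rw [relIndex_bot_left, relIndex_bot_left, inf_relIndex_right, h3, h.card] at e
    rw [inf_comm]; omega
  have h5M : 5 ∣ Nat.card M :=
    (Nat.Coprime.dvd_mul_left (by norm_num)).1 (hcardQ ▸ h.five)
  have hsyl : ∃ SM : Sylow 2 M, (SM : Subgroup M) = T.subgroupOf M := by
    have hcard : Nat.card (T.subgroupOf M) = 2 ^ 2 := by
      rw [← inf_subgroupOf_right, Nat.card_congr (subgroupOfEquivOfLe inf_le_right).toEquiv, hTM]; rfl
    refine ⟨Sylow.ofCard (T.subgroupOf M) (hcard.trans (congrArg (2 ^ ·) ?_)), rfl⟩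
    have h8 : (Nat.card Q).factorization 2 = 3 := by
      have hcs := S.card_eq_multiplicity
      rw [show Nat.card S = Nat.card (S : Subgroup Q) from rfl, hS, h.card] at hcs
      exact (Nat.pow_right_injective (le_refl 2) (hcs.symm.trans (show (8 : ℕ) = 2 ^ 3 by norm_num)) :)
    rw [hcardQ, Nat.factorization_mul two_ne_zero Nat.card_pos.ne', Finsupp.add_apply,
      Nat.prime_two.factorization_self] at h8
    omega
  obtain ⟨SM, hSM⟩ := hsyl
  have hSMcard : Nat.card (SM : Subgroup M) = 4 := by
    rw [hSM, ← inf_subgroupOf_right, Nat.card_congr (subgroupOfEquivOfLe inf_le_right).toEquiv, hTM]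
  have hnoK : ∀ K : Subgroup M, K.Normal → ¬ K.IsComplement' (SM : Subgroup M) := by
    intro K hK hKS
    rw [h.card_of_complement hM hKS, hSMcard] at h5M
    omega
  by_cases hcM : c ∈ M
  · -- the four-group is a Sylow subgroup of `M`
    set z' : M := ⟨z, hzM⟩
    have hVM : V = T ⊓ M := by
      refine eq_of_le_of_card_ge (le_inf hVT ?_) (by rw [hTM, hVcard])
      rintro x (rfl | rfl | rfl | rfl)
      exacts [one_mem _, hzM, hcM, mul_mem hzM hcM]
    have hmemS : ∀ x : M, x ∈ (SM : Subgroup M) ↔ (x : Q) ∈ V := fun x => by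
      rw [hSM, mem_subgroupOf, hVM, mem_inf]; simp [x.2]
    have hcent : ∀ x : M, Commute (x : Q) z → x ∈ (SM : Subgroup M) := fun x hx => by
      rw [hSM]; exact mem_subgroupOf.2 (mem_centralizer_singleton_iff.2 hx)
    have habel : ∀ a ∈ (SM : Subgroup M), ∀ b ∈ (SM : Subgroup M), a * b = b * a := by
      intro a ha b hb
      have hab := (hmemS _).1 (mul_mem ha hb)
      have hsq : ∀ w ∈ V, w * w = 1 := by
        rintro w (rfl | rfl | rfl | rfl)
        exacts [one_mul 1, h.z_sq, h.c_sq, by rw [← pow_two, ← h.zc_order, pow_orderOf_eq_one]]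
      have h1 := hsq _ hab
      rw [coe_mul] at h1
      apply Subtype.ext
      rw [coe_mul, coe_mul]
      calc (a : Q) * b = ((a : Q) * b)⁻¹ := (inv_eq_of_mul_eq_one_right h1).symm
        _ = (b : Q)⁻¹ * (a : Q)⁻¹ := mul_inv_rev _ _
        _ = (b : Q) * a := by
          rw [inv_eq_of_mul_eq_one_right (hsq _ ((hmemS _).1 ha)),
            inv_eq_of_mul_eq_one_right (hsq _ ((hmemS _).1 hb))]
    obtain ⟨n, hn, hnz⟩ : ∃ n ∈ normalizer ((SM : Subgroup M) : Set M), n * z' * n⁻¹ ≠ z' := by
      by_contra! hall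
      refine hnoK _ inferInstance (MonoidHom.ker_transferSylow_isComplement' SM fun n hn => ?_)
      have h1 : n ∈ (SM : Subgroup M) := hcent n (by
        have := congrArg Subtype.val (hall n hn)
        push_cast at this
        exact mul_inv_eq_iff_eq_mul.1 this)
      exact mem_centralizer_iff.2 fun b hb => habel b hb n h1
    have hz'S : z' ∈ (SM : Subgroup M) := (hmemS z').2 (Or.inr (Or.inl rfl))
    set r : M := n * z' * n⁻¹ with hr
    have hrS : r ∈ (SM : Subgroup M) := (mem_normalizer_iff.1 hn z').1 hz'S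
    have hr1 : r ≠ 1 := fun e => by
      have : z' = 1 := by
        calc z' = n⁻¹ * r * n := by rw [hr]; group
          _ = 1 := by rw [e]; group
      have h2 := congrArg (fun x : M => orderOf (x : Q)) this
      simp only [z', coe_one, orderOf_one, h.order_z] at h2
      omega
    have hzo : orderOf z' = 2 := by rw [← orderOf_coe]; exact h.order_z
    have hro : orderOf r = 2 := by
      rw [hr]; exact (orderOf_injective (MulAut.conj n).toMonoidHom (MulAut.conj n).injective z').trans hzo
    have hne : z' ≠ r := fun e => hnz e.symm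
    have hz'1 : z' ≠ 1 := fun e => by rw [e, orderOf_one] at hzo; omega
    haveI hKF : IsKleinFour (SM : Subgroup M) := by
      refine ⟨hSMcard, ?_⟩
      refine Nat.dvd_antisymm (Monoid.exponent_dvd_of_forall_pow_eq_one fun w => Subtype.ext ?_) ?_
      · apply Subtype.ext
        have := (hmemS w.1).1 w.2
        push_cast
        rw [pow_two]
        rcases this with e | e | e | e <;> rw [e]
        exacts [one_mul 1, h.z_sq, h.c_sq, by rw [← pow_two, ← h.zc_order, pow_orderOf_eq_one]]
      · have := Monoid.order_dvd_exponent (⟨z', hz'S⟩ : (SM : Subgroup M))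
        rwa [Subgroup.orderOf_mk, hzo] at this
    have hn2 : n * r * n⁻¹ ≠ z' := by
      intro e
      -- then `n ^ 2` lies in the four-group, so `n` is a 2-element normalising it
      have h2 : n * n ∈ (SM : Subgroup M) := hcent _ (by
        have : n * n * z' * (n * n)⁻¹ = z' := by
          conv_rhs => rw [← e]
          rw [hr]; group
        have := congrArg Subtype.val this
        push_cast at this ⊢
        exact mul_inv_eq_iff_eq_mul.1 this)
      have h4 : n ^ 4 = 1 := by
        have := Involution.klein_orderOf SM h2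
        by_cases e1 : n * n = 1
        · rw [show (4 : ℕ) = 2 * 2 by norm_num, pow_mul, pow_two n, e1, one_pow]
        · rw [show (4 : ℕ) = 2 * 2 by norm_num, pow_mul, pow_two n, ← this e1, pow_orderOf_eq_one]
      have hp : IsPGroup 2 (zpowers n) := by
        obtain ⟨j, -, hj⟩ := (Nat.dvd_prime_pow Nat.prime_two).1
          (orderOf_dvd_iff_pow_eq_one.2 (show n ^ (2 ^ 2) = 1 from h4))
        exact IsPGroup.of_card (n := j) (by rw [Nat.card_zpowers, hj])
      have hmax := SM.is_maximal' (hp.to_sup_of_normal_right' SM.isPGroup' (zpowers_le.2 hn)) le_sup_right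
      have hnS : n ∈ (SM : Subgroup M) := by
        have := le_sup_left (b := (SM : Subgroup M)) (mem_zpowers n)
        rwa [hmax] at this
      exact hnz (mul_inv_eq_iff_eq_mul.2 (habel n hnS z' hz'S))
    have hnr : n * r * n⁻¹ = z' * r := by
      refine Involution.klein_eq_mul SM hz'S hz'1 hrS hr1 hne ((mem_normalizer_iff.1 hn r).1 hrS)
        (fun e => hr1 ?_) hn2 (fun e => hne ?_)
      · calc r = n⁻¹ * (n * r * n⁻¹) * n := by group
          _ = 1 := by rw [e]; group
      · have := congrArg (fun x => n⁻¹ * x * n) e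
        simpa [hr, mul_assoc] using this.symm
    have hS4 : (SM : Subgroup M) = GWKlein.fourV z' r := by
      refine le_antisymm (fun x hx => ?_) (GWKlein.fourV_le_iff.2 ⟨hz'S, hrS⟩)
      by_cases e1 : x = 1
      · rw [e1]; exact one_mem _
      by_cases e2 : x = z'
      · rw [e2]; exact GWKlein.left_mem_fourV _ _
      by_cases e3 : x = r
      · rw [e3]; exact GWKlein.right_mem_fourV _ _
      rw [Involution.klein_eq_mul SM hz'S hz'1 hrS hr1 hne hx e1 e2 e3]
      exact mul_mem (GWKlein.left_mem_fourV _ _) (GWKlein.right_mem_fourV _ _)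
    have H : GWKlein.Hyp z' r n := ⟨hzo, hro, hne, habel z' hz'S r hrS, ⟨SM, hS4⟩, rfl, hnr⟩
    have hU : GWKlein.coreU z' = ⊥ := by
      refine (eq_bot_iff_forall _).2 fun v hv => ?_
      obtain ⟨hv1, hv2⟩ := H.mem_coreU.1 hv
      exact Subtype.ext (h.two z h.order_z h.pos_z v (congrArg Subtype.val hv1.eq) (by rwa [orderOf_coe]))
    have hW : GWKlein.coreW z' r = ⊥ := le_bot_iff.1 (hU ▸ GWKlein.coreW_le_coreU z' r)
    obtain ⟨S₀, hS₀, hord⟩ := H.orderFormula
    rw [hU, hW, card_bot] at hord
    push_cast at hord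
    have h60 : Nat.card M ≤ 60 := by
      have hpos : (0 : ℚ) ≤ Nat.card M := Nat.cast_nonneg _
      have : (Nat.card M : ℚ) ≤ 60 := by nlinarith
      exact_mod_cast this
    -- three divides the order
    have h3 : 3 ∣ Nat.card M := by
      refine dvd_trans ?_ (orderOf_dvd_natCard n)
      by_contra h3
      obtain ⟨k, hk⟩ := exists_pow_eq_self_of_coprime
        (n := 3) (x := n) ((Nat.Prime.coprime_iff_not_dvd Nat.prime_three).2 h3)
      have hfix : Commute (n ^ 3) z' := by
        have e : n ^ 3 * z' * (n ^ 3)⁻¹ = z' := by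
          have e1 : n * (z' * r) * n⁻¹ = z' := by
            rw [show n * (z' * r) * n⁻¹ = n * z' * n⁻¹ * (n * r * n⁻¹) by group, ← hr, hnr,
              habel z' hz'S r hrS, ← mul_assoc, ← pow_two, ← hro, pow_orderOf_eq_one, one_mul]
          calc n ^ 3 * z' * (n ^ 3)⁻¹ = n * (n * (n * z' * n⁻¹) * n⁻¹) * n⁻¹ := by
                simp only [pow_succ, pow_zero, one_mul, mul_inv_rev, mul_assoc]
            _ = z' := by rw [← hr, hnr, e1]
        exact mul_inv_eq_iff_eq_mul.1 e
      have := hfix.pow_left k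
      rw [hk] at this
      exact hnz (mul_inv_eq_iff_eq_mul.2 this.eq)
    have h4M : 4 ∣ Nat.card M := hSMcard ▸ card_subgroup_dvd_card _
    have h60' : 60 ∣ Nat.card M :=
      (Nat.Coprime.mul_dvd_of_dvd_of_dvd (show Nat.Coprime 12 5 by norm_num)
        (Nat.Coprime.mul_dvd_of_dvd_of_dvd (show Nat.Coprime 4 3 by norm_num) h4M h3) h5M :)
    have := Nat.le_of_dvd Nat.card_pos h60'
    omega
  · -- otherwise the Sylow subgroup of `M` is cyclic
    exfalso
    obtain ⟨w, hwTM, hw1, hwz⟩ : ∃ w ∈ T ⊓ M, w ≠ 1 ∧ w ≠ z := by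
      by_contra! hc'
      have hsub : ((T ⊓ M : Subgroup Q) : Set Q) ⊆ {1, z} := fun x hx => by
        by_cases e : x = 1
        · exact Or.inl e
        · exact Or.inr (hc' x hx e)
      have := (Set.ncard_le_ncard hsub).trans (Set.ncard_insert_le _ _)
      rw [← Nat.card_coe_set_eq, SetLike.coe_sort_coe, hTM, Set.ncard_singleton] at this
      omega
    have hwc : Commute w z := mem_centralizer_singleton_iff.1 hwTM.1
    have hww : w * w = z := by
      refine (h.squares w hwc).resolve_left fun e => ?_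
      have hwM := hwTM.2
      rcases h.invols w hwc e with r | r | r | r | r | r <;> subst r
      · exact hw1 rfl
      · exact hwz rfl
      · exact hcM hwM
      · exact hcM ((mul_mem_cancel_left hzM).1 hwM)
      · exact hτM hwM
      · exact hzτM hwM
    have hw4 : orderOf w = 4 := by
      refine orderOf_eq_prime_pow (p := 2) (n := 1) ?_ ?_
      · rw [pow_one, pow_two, hww]
        exact fun e => by have := h.order_z; rw [e, orderOf_one] at this; omega
      · rw [show (2 : ℕ) ^ (1 + 1) = 2 + 2 by norm_num, pow_add, pow_two, hww, h.z_sq]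
    have hcyc : IsCyclic (SM : Subgroup M) := by
      have hwS : (⟨w, hwTM.2⟩ : M) ∈ (SM : Subgroup M) := hSM ▸ mem_subgroupOf.2 hwTM.1
      refine isCyclic_of_orderOf_eq_card (⟨⟨w, hwTM.2⟩, hwS⟩ : (SM : Subgroup M)) ?_
      rw [Subgroup.orderOf_mk, Subgroup.orderOf_mk, hw4, hSMcard]
    have hmin : (Nat.card M).minFac = 2 :=
      (Nat.minFac_eq_two_iff _).2 ((show 2 ∣ 4 by norm_num).trans (hSMcard ▸ card_subgroup_dvd_card _))
    exact hnoK _ inferInstance (hcyc.isComplement' hmin)

end OctData

end Cfsg.Agent.CoThreeClose
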