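import Cfsg.Agent.Lib.CoThreeClose.KleinBound

/-!
# The centraliser of a four-group of involutions not conjugate to `z`

`LocalData z b y` lists what is needed from `C(z) ⊓ C(b) ⊓ C(y)`; then `C(b, y)` has order 480 as soon as five
divides it.

* `LocalData.card_eq`
-/

set_option autoImplicit false

namespace Cfsg.Agent.CoThreeClose

open Subgroup

variable {G : Type*} [Group G]

/-- The elements of the four-group of `b` and `y`. -/
def InV (b y v : G) : Prop := v = 1 ∨ v = b ∨ v = y ∨ v = b * y

/-- The facts about `C(z, b, y)`. -/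
structure LocalData (z b y : G) : Prop where
  order_z : orderOf z = 2
  order_b : orderOf b = 2
  order_y : orderOf y = 2
  ne : b ≠ y
  comm : Commute b y
  comm_zb : Commute z b
  comm_zy : Commute z y
  card : {a : G | Commute a z ∧ Commute a b ∧ Commute a y}.ncard = 32
  root : ∃ r : G, Commute r b ∧ Commute r y ∧ r * r = z
  squares : ∀ a : G, Commute a z → Commute a b → Commute a y → a * a = 1 ∨ a * a = z
  neg : ∀ v : G, InV b y v → v ≠ 1 → ¬ IsConj z (z * v)
  negV : ∀ v : G, InV b y v → ¬ IsConj z v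
  marks : ∃ c τ : G, (Commute c z ∧ Commute c b ∧ Commute c y) ∧ (Commute τ z ∧ Commute τ b ∧ Commute τ y) ∧
    c * c = 1 ∧ τ * τ = 1 ∧ IsConj z c ∧ IsConj z (z * c) ∧
    (∀ v : G, InV b y v → c ≠ z * v) ∧ ¬ InV b y τ ∧ (∀ v : G, InV b y v → ¬ IsConj z (τ * v)) ∧
    ∀ a : G, Commute a z → Commute a b → Commute a y → a * a = 1 →
      ∃ v : G, InV b y v ∧ (a = v ∨ a = z * v ∨ a = c * v ∨ a = z * c * v ∨ a = τ * v ∨ a = z * τ * v)
  two : ∀ u : G, IsConj z u → Commute u b → Commute u y →
    ∀ v : G, Commute v u → Commute v b → Commute v y → Odd (orderOf v) → v = 1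

theorem LocalData.card_eq [Finite G] {z b y : G} (h : LocalData z b y)
    (h5 : 5 ∣ Nat.card (centralizer ({b, y} : Set G))) :
    Nat.card (centralizer ({b, y} : Set G)) = 480 := by
  classical
  haveI : Fact (Nat.Prime 2) := ⟨Nat.prime_two⟩
  have hbb : b * b = 1 := by rw [← pow_two, ← h.order_b, pow_orderOf_eq_one]
  have hyy : y * y = 1 := by rw [← pow_two, ← h.order_y, pow_orderOf_eq_one]
  have hzz : z * z = 1 := by rw [← pow_two, ← h.order_z, pow_orderOf_eq_one]
  set K := centralizer ({b, y} : Set G) with hKdef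
  have hK : ∀ a : G, a ∈ K ↔ Commute a b ∧ Commute a y := fun a => by
    simp only [hKdef, mem_centralizer_iff, Set.mem_insert_iff, Set.mem_singleton_iff, forall_eq_or_imp,
      forall_eq]
    exact ⟨fun h => ⟨h.1.symm, h.2.symm⟩, fun h => ⟨h.1.symm, h.2.symm⟩⟩
  have hVK : ∀ v, InV b y v → v ∈ K := by
    rintro v (rfl | rfl | rfl | rfl)
    · exact one_mem _
    · exact (hK _).2 ⟨Commute.refl _, h.comm⟩
    · exact (hK _).2 ⟨h.comm.symm, Commute.refl _⟩
    · exact (hK _).2 ⟨(Commute.refl b).mul_left h.comm.symm, h.comm.mul_left (Commute.refl y)⟩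
  have hVc : ∀ v, InV b y v → ∀ a ∈ K, Commute a v := by
    rintro v (rfl | rfl | rfl | rfl) a ha
    exacts [Commute.one_right _, ((hK a).1 ha).1, ((hK a).1 ha).2,
      ((hK a).1 ha).1.mul_right ((hK a).1 ha).2]
  have hVsq : ∀ v, InV b y v → v * v = 1 := by
    rintro v (rfl | rfl | rfl | rfl)
    · exact one_mul 1
    · exact hbb
    · exact hyy
    · calc b * y * (b * y) = b * (y * b) * y := by simp only [mul_assoc]
        _ = b * b * (y * y) := by rw [← h.comm.eq]; simp only [mul_assoc]
        _ = 1 := by rw [hbb, hyy, one_mul]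
  let V : Subgroup K :=
    { carrier := {v | InV b y (v : G)}
      one_mem' := Or.inl rfl
      mul_mem' := by
        intro u v hu hv
        have e1 : y * b = b * y := h.comm.symm.eq
        have e2 : b * (b * y) = y := by rw [← mul_assoc, hbb, one_mul]
        have e3 : y * (b * y) = b := by rw [← mul_assoc, e1, mul_assoc, hyy, mul_one]
        have e4 : b * y * b = y := by rw [mul_assoc, e1, e2]
        have e5 : b * y * y = b := by rw [mul_assoc, hyy, mul_one]
        have e6 : b * y * (b * y) = 1 := by rw [← mul_assoc, e4, hyy]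
        simp only [Set.mem_ofPred_eq, coe_mul, InV] at hu hv ⊢
        rcases hu with hu | hu | hu | hu <;> rcases hv with hv | hv | hv | hv <;>
          simp only [hu, hv, one_mul, mul_one, hbb, hyy, e1, e2, e3, e4, e5, e6, true_or, or_true]
      inv_mem' := by
        intro v hv
        have hv2 : (v : G)⁻¹ = v := inv_eq_of_mul_eq_one_right (hVsq _ hv)
        simpa only [Set.mem_ofPred_eq, coe_inv, hv2] using hv }
  haveI : V.Normal := ⟨fun v hv a => by
    have e : a * v * a⁻¹ = v := Subtype.ext (by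
      rw [coe_mul, coe_mul, coe_inv, (hVc _ hv _ a.2).eq, mul_inv_cancel_right])
    rw [e]; exact hv⟩
  have hV4 : Nat.card V = 4 := by
    have hb1 : b ≠ 1 := fun e => by have := h.order_b; rw [e, orderOf_one] at this; omega
    have hy1 : y ≠ 1 := fun e => by have := h.order_y; rw [e, orderOf_one] at this; omega
    have hby : b * y ≠ 1 := fun e => h.ne (by rw [eq_inv_of_mul_eq_one_left e, inv_eq_of_mul_eq_one_right hyy])
    have himg : Subtype.val '' (V : Set K) = ↑({1, b, y, b * y} : Finset G) := by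
      ext x
      simp only [Set.mem_image, SetLike.mem_coe, Finset.coe_insert, Finset.coe_singleton, Set.mem_insert_iff,
        Set.mem_singleton_iff]
      exact ⟨fun ⟨v, hv, e⟩ => e ▸ hv, fun hx => ⟨⟨x, hVK x hx⟩, hx, rfl⟩⟩
    rw [show Nat.card V = (V : Set K).ncard from Nat.card_coe_set_eq _,
      ← Set.ncard_image_of_injective _ Subtype.val_injective, himg, Set.ncard_coe_finset,
      Finset.card_insert_of_notMem, Finset.card_insert_of_notMem, Finset.card_pair]
    · exact fun e => hb1 (mul_eq_right.1 e.symm)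
    · simp only [Finset.mem_insert, Finset.mem_singleton, not_or]
      exact ⟨h.ne, fun e => hy1 (mul_eq_left.1 e.symm)⟩
    · simp only [Finset.mem_insert, Finset.mem_singleton, not_or]
      exact ⟨hb1.symm, hy1.symm, hby.symm⟩
  let q := QuotientGroup.mk' V
  have hq : ∀ a a' : K, q a = q a' ↔ ∃ v : G, InV b y v ∧ (a' : G) = a * v := fun a a' => by
    rw [QuotientGroup.mk'_eq_mk']
    constructor
    · rintro ⟨v, hv, e⟩
      exact ⟨v, hv, by rw [← e, coe_mul]⟩
    · rintro ⟨v, hv, e⟩
      exact ⟨⟨v, hVK v hv⟩, hv, Subtype.ext e.symm⟩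
  let zK : K := ⟨z, (hK z).2 ⟨h.comm_zb, h.comm_zy⟩⟩
  obtain ⟨c, τ, ⟨hcz, hcb, hcy⟩, ⟨hτz, hτb, hτy⟩, hcc, hττ, hPc, hPzc, hcne, hτV, hτP, hinv⟩ := h.marks
  let cK : K := ⟨c, (hK c).2 ⟨hcb, hcy⟩⟩
  let τK : K := ⟨τ, (hK τ).2 ⟨hτb, hτy⟩⟩
  let P : K ⧸ V → Prop := fun x => ∃ a : K, q a = x ∧ IsConj z (a : G)
  have hPz : P (q zK) := ⟨zK, rfl, IsConj.refl z⟩
  have hone : ∀ a : K, q a = 1 ↔ InV b y (a : G) := fun a => QuotientGroup.eq_one_iff a
  have hz1 : q zK ≠ 1 := fun e => h.negV z ((hone _).1 e) (IsConj.refl z)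
  have horder : ∀ a : K, (a : G) * a = 1 → q a ≠ 1 → orderOf (q a) = 2 := fun a ha hne => by
    refine orderOf_eq_prime ?_ hne
    rw [← map_pow, pow_two, show a * a = 1 from Subtype.ext ha, map_one]
  have hcentq : ∀ a : K, Commute (q a) (q zK) ↔ Commute (a : G) z := by
    intro a
    constructor
    · intro hc
      have e : q (a * zK * a⁻¹) = q zK := by rw [map_mul, map_mul, map_inv, hc.eq, mul_inv_cancel_right]
      obtain ⟨v, hv, ev⟩ := (hq zK (a * zK * a⁻¹)).1 e.symm
      push_cast at ev
      by_cases hv1 : v = 1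
      · rw [hv1, mul_one] at ev
        exact mul_inv_eq_iff_eq_mul.1 ev
      · exact absurd (isConj_iff.2 ⟨(a : G), ev⟩) (h.neg v hv hv1)
    · intro hc
      exact (Commute.map (show Commute a zK from Subtype.ext hc.eq) q)
  have hsq : ∀ x : K ⧸ V, Commute x (q zK) → x * x = 1 ∨ x * x = q zK := by
    intro x hx
    obtain ⟨a, rfl⟩ := QuotientGroup.mk'_surjective V x
    have ha := (hK a).1 a.2
    rcases h.squares a ((hcentq a).1 hx) ha.1 ha.2 with e | e
    · exact Or.inl (by rw [← map_mul, show a * a = 1 from Subtype.ext e, map_one])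
    · exact Or.inr (by rw [← map_mul, show a * a = zK from Subtype.ext e])
  have hcard : Nat.card (centralizer ({q zK} : Set (K ⧸ V))) = 8 := by
    have hcomap : Nat.card ((centralizer ({q zK} : Set (K ⧸ V))).comap q) = 32 := by
      have himg : Subtype.val '' ((centralizer ({q zK} : Set (K ⧸ V))).comap q : Set K) =
          {a : G | Commute a z ∧ Commute a b ∧ Commute a y} := by
        ext a
        simp only [Set.mem_image, SetLike.mem_coe, mem_comap, Set.mem_ofPred_eq]
        constructor
        · rintro ⟨a, ha, rfl⟩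
          exact ⟨(hcentq a).1 (mem_centralizer_singleton_iff.1 ha), (hK a).1 a.2⟩
        · rintro ⟨ha, hb, hy⟩
          exact ⟨⟨a, (hK a).2 ⟨hb, hy⟩⟩, mem_centralizer_singleton_iff.2 ((hcentq ⟨a, _⟩).2 ha).eq, rfl⟩
      have e : (((centralizer ({q zK} : Set (K ⧸ V))).comap q : Subgroup K) : Set K).ncard = 32 := by
        rw [← Set.ncard_image_of_injective _ Subtype.val_injective, himg, h.card]
      rw [← e, ← Nat.card_coe_set_eq]; rfl
    have hVle : V ≤ (centralizer ({q zK} : Set (K ⧸ V))).comap q := fun v hv => by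
      rw [mem_comap, show q v = 1 from (hone v).2 hv]; exact one_mem _
    have e := relIndex_mul_relIndex ⊥ V _ bot_le hVle
    rw [relIndex_bot_left, relIndex_bot_left, hV4, hcomap] at e
    have e2 : V.relIndex ((centralizer ({q zK} : Set (K ⧸ V))).comap q) =
        Nat.card (centralizer ({q zK} : Set (K ⧸ V))) := by
      have hbot : (⊥ : Subgroup (K ⧸ V)).comap q = V := by
        ext a; rw [mem_comap, mem_bot]; exact QuotientGroup.eq_one_iff a
      conv_lhs => arg 1; rw [← hbot]
      rw [relIndex_comap, map_comap_eq_self_of_surjective (QuotientGroup.mk'_surjective V), relIndex_bot_left]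
    omega
  have hmulzc : q zK * q cK = q (zK * cK) := (map_mul q _ _).symm
  have D : OctData (q zK) (q cK) (q τK) P := by
    refine ⟨?_, horder _ hzz hz1, horder _ hcc ?_, horder _ hττ fun e => hτV ((hone _).1 e), ?_, ?_, ?_, hcard, ?_,
      hsq, ?_, hPz, ⟨cK, rfl, hPc⟩, ⟨zK * cK, hmulzc.symm, hPzc⟩, ?_, ?_, ?_⟩
    · rintro g _ ⟨a, rfl, ha⟩
      obtain ⟨g, rfl⟩ := QuotientGroup.mk'_surjective V g
      refine ⟨g * a * g⁻¹, by rw [map_mul, map_mul, map_inv], ha.trans (isConj_iff.2 ⟨(g : G), ?_⟩)⟩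
      push_cast; rfl
    · exact fun e => h.negV c ((hone cK).1 e) hPc
    · intro e
      obtain ⟨v, hv, ev⟩ := (hq zK cK).1 e.symm
      exact hcne v hv ev
    · exact (hcentq cK).2 hcz
    · exact (hcentq τK).2 hτz
    · obtain ⟨r, hrb, hry, hr⟩ := h.root
      exact ⟨q ⟨r, (hK r).2 ⟨hrb, hry⟩⟩, by rw [← map_mul]; exact congrArg q (Subtype.ext hr)⟩
    · intro w hw hww
      obtain ⟨a, rfl⟩ := QuotientGroup.mk'_surjective V w
      have ha := (hK a).1 a.2
      have haz := (hcentq a).1 hw
      have hne : q zK ≠ 1 := hz1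
      have haa : (a : G) * a = 1 := by
        rcases h.squares a haz ha.1 ha.2 with e | e
        · exact e
        · exact absurd (by rw [← map_mul, show a * a = zK from Subtype.ext e] at hww; exact hww) hne
      obtain ⟨v, hv, hcases⟩ := hinv a haz ha.1 ha.2 haa
      have key : ∀ w : K, (a : G) = w * v → q a = q w := fun w e => ((hq w a).2 ⟨v, hv, e⟩).symm
      rcases hcases with e | e | e | e | e | e
      · exact Or.inl ((hone a).2 (e ▸ hv))
      · exact Or.inr (Or.inl (key zK e))
      · exact Or.inr (Or.inr (Or.inl (key cK e)))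
      · exact Or.inr (Or.inr (Or.inr (Or.inl (by rw [hmulzc]; exact key (zK * cK) (by rw [coe_mul]; exact e)))))
      · exact Or.inr (Or.inr (Or.inr (Or.inr (Or.inl (key τK e)))))
      · exact Or.inr (Or.inr (Or.inr (Or.inr (Or.inr (by
          rw [← map_mul]; exact key (zK * τK) (by rw [coe_mul]; exact e))))))
    · rintro ⟨a, ea, ha⟩
      obtain ⟨v, hv, ev⟩ := (hq τK a).1 ea.symm
      exact hτP v hv (ev ▸ ha)
    · rintro x hx ⟨u, rfl, hu⟩ w hw hwodd
      obtain ⟨a, rfl⟩ := QuotientGroup.mk'_surjective V w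
      obtain ⟨k, m, hm, ham⟩ := Nat.exists_eq_two_pow_mul_odd (orderOf_pos a).ne'
      have hcop : (2 ^ k).Coprime (orderOf (q a)) := (Nat.coprime_two_left.2 hwodd).pow_left k
      obtain ⟨j, hj⟩ := exists_pow_eq_self_of_coprime hcop
      -- a lift of odd order of a generator
      set a' := a ^ (2 ^ k) with ha'
      have hodd : Odd (orderOf (a' : G)) := by
        rw [orderOf_coe, ha', orderOf_pow' _ (pow_ne_zero k two_ne_zero), ham, Nat.gcd_mul_right_left,
          Nat.mul_div_cancel_left _ (pow_pos two_pos k)]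
        exact hm
      have hqa' : q a' = q a ^ (2 ^ k) := map_pow q a _
      obtain ⟨v, hv, hev⟩ : ∃ v, InV b y v ∧ (a' : G) * u * (a' : G)⁻¹ = (u : G) * v := by
        have e : q (a' * u * a'⁻¹) = q u := by
          rw [map_mul, map_mul, map_inv, hqa', (hw.pow_left _).eq, mul_inv_cancel_right]
        obtain ⟨v, hv, ev⟩ := (hq u (a' * u * a'⁻¹)).1 e.symm
        exact ⟨v, hv, by push_cast at ev; exact ev⟩
      have hv1 : v = 1 := by
        have hiter : ∀ n : ℕ, (a' : G) ^ n * u * ((a' : G) ^ n)⁻¹ = (u : G) * v ^ n := by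
          intro n
          induction n with
          | zero => simp
          | succ n ih =>
            calc (a' : G) ^ (n + 1) * u * ((a' : G) ^ (n + 1))⁻¹
                = (a' : G) * ((a' : G) ^ n * u * ((a' : G) ^ n)⁻¹) * (a' : G)⁻¹ := by rw [pow_succ']; group
              _ = (a' : G) * u * (a' : G)⁻¹ * ((a' : G) * v ^ n * (a' : G)⁻¹) := by rw [ih]; group
              _ = (u : G) * v ^ (n + 1) := by
                rw [((hVc v hv _ a'.2).pow_right n).eq, mul_inv_cancel_right, hev, mul_assoc, ← pow_succ']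
        have := hiter (orderOf (a' : G))
        rw [pow_orderOf_eq_one, inv_one, one_mul, mul_one, left_eq_mul] at this
        obtain ⟨l, hl⟩ := hodd
        rwa [hl, pow_succ, pow_mul, pow_two, hVsq v hv, one_pow, one_mul] at this
      rw [hv1, mul_one] at hev
      have hu' := (hK u).1 u.2
      have hafix := (hK a').1 a'.2
      have h1 : (a' : G) = 1 := h.two u hu hu'.1 hu'.2 a' (mul_inv_eq_iff_eq_mul.1 hev) hafix.1 hafix.2 hodd
      rw [← hj, ← hqa', show a' = 1 from Subtype.ext h1, map_one, one_pow]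
    · have e := card_mul_index V
      rw [hV4, index_eq_card] at e
      exact (Nat.Coprime.dvd_mul_left (show Nat.Coprime 5 4 by norm_num)).1 (e ▸ h5)
  have e := card_mul_index V
  rw [hV4, index_eq_card, D.card_eq] at e
  exact e.symm

end Cfsg.Agent.CoThreeClose
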