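import Cfsg.Agent.Lib.CoThreeClose.Local
import Cfsg.Agent.Lib.TransvCent.Closing
import Cfsg.Agent.Lib.Transfer.Focal

/-!
# Closing step for the third Conway group

`Facts z a b y` lists what is needed inside `C(z)`. A subgroup containing `C(z)`, fusing `z` to `a`, and having an
element of order five on a four-group of involutions not conjugate to `z` is the whole group.

* `Facts.eq_top`
-/

set_option autoImplicit false

namespace Cfsg.Agent.CoThreeClose

open Subgroup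
open TransvCent.Closing (Setting Fix Safe)

variable {G : Type*} [Group G]

/-- A Sylow subgroup `T` of the centraliser of `W` in `C(z)` has only one conjugate of `z` in its centre. -/
def Uniq (W : Set G) (z : G) : Prop :=
  ∃ T : Subgroup G, IsPGroup 2 T ∧ z ∈ T ∧ (∀ t ∈ T, Commute t z ∧ Fix W t) ∧
    (∀ R : Subgroup G, IsPGroup 2 R → T ≤ R → (∀ t ∈ R, Commute t z ∧ Fix W t) → R ≤ T) ∧
    ∀ x ∈ T, (∀ t ∈ T, Commute t x) → IsConj z x → x = z

/-- Each involution of `H` centralising `W` commutes with a conjugate of `z` under `H` and the centraliser of `W`. -/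
theorem Uniq.exists_conj [Finite G] {W : Set G} {z : G} (hu : Uniq W z) {H : Subgroup G}
    (hC : ∀ c : G, Commute c z → c ∈ H) {x : G} (hx : x ∈ H) (hxW : Fix W x) (hx2 : x * x = 1) :
    ∃ h ∈ H, Fix W h ∧ Commute (h * x * h⁻¹) z := by
  classical
  haveI : Fact (Nat.Prime 2) := ⟨Nat.prime_two⟩
  obtain ⟨T, hT2, hzT, hTW, hTmax, hTuniq⟩ := hu
  let L : Subgroup G :=
    { carrier := {c | c ∈ H ∧ Fix W c}
      one_mem' := ⟨H.one_mem, Fix.one W⟩
      mul_mem' := fun ha hb => ⟨H.mul_mem ha.1 hb.1, ha.2.mul hb.2⟩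
      inv_mem' := fun ha => ⟨H.inv_mem ha.1, ha.2.inv⟩ }
  have hTL : T ≤ L := fun t ht => ⟨hC t (hTW t ht).1, (hTW t ht).2⟩
  have hTS : IsPGroup 2 (T.subgroupOf L) := hT2.of_equiv (subgroupOfEquivOfLe hTL).symm
  obtain ⟨S, hS⟩ := hTS.exists_le_sylow
  have hST : (S : Subgroup L) = T.subgroupOf L := by
    by_contra hne
    have hlt : T.subgroupOf L < (S : Subgroup L) := lt_of_le_of_ne hS (Ne.symm hne)
    have hlt' : (T.subgroupOf L).subgroupOf (S : Subgroup L) < ⊤ := by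
      refine lt_of_le_of_ne le_top fun e => hlt.not_ge fun s hs => ?_
      have h1 : (⟨s, hs⟩ : (S : Subgroup L)) ∈ (T.subgroupOf L).subgroupOf (S : Subgroup L) := by
        rw [e]; exact mem_top _
      exact h1
    haveI : Group.IsNilpotent (S : Subgroup L) := S.2.isNilpotent
    obtain ⟨g, hgN, hgT⟩ := SetLike.exists_of_lt
      (Group.normalizerCondition_of_isNilpotent _ hlt')
    have hconj : ∀ t ∈ T, ((g : L) : G) * t * ((g : L) : G)⁻¹ ∈ T := fun t ht => by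
      have := (mem_normalizer_iff.1 hgN ⟨⟨t, hTL ht⟩, hS (mem_subgroupOf.2 ht)⟩).1
        (mem_subgroupOf.2 (mem_subgroupOf.2 ht))
      exact mem_subgroupOf.1 (mem_subgroupOf.1 this)
    set γ : G := ((g : L) : G) with hγ
    have hinv : ∀ t ∈ T, ∃ t' ∈ T, γ * t' * γ⁻¹ = t := by
      intro t ht
      have := (mem_normalizer_iff.1 (inv_mem hgN) ⟨⟨t, hTL ht⟩, hS (mem_subgroupOf.2 ht)⟩).1
        (mem_subgroupOf.2 (mem_subgroupOf.2 ht))
      refine ⟨_, mem_subgroupOf.1 (mem_subgroupOf.1 this), ?_⟩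
      simp only [hγ, Subgroup.coe_mul, Subgroup.coe_inv]
      group
    have hfix : γ * z * γ⁻¹ = z := by
      refine hTuniq _ (hconj z hzT) (fun t ht => ?_) (isConj_iff.2 ⟨γ, rfl⟩)
      obtain ⟨t', ht', rfl⟩ := hinv t ht
      show γ * t' * γ⁻¹ * (γ * z * γ⁻¹) = γ * z * γ⁻¹ * (γ * t' * γ⁻¹)
      calc γ * t' * γ⁻¹ * (γ * z * γ⁻¹) = γ * (t' * z) * γ⁻¹ := by group
        _ = γ * (z * t') * γ⁻¹ := by rw [(hTW t' ht').1.eq]
        _ = _ := by group
    have hgz : Commute γ z := mul_inv_eq_iff_eq_mul.1 hfix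
    -- so `T` and `γ` generate a larger 2-group centralising `z` and `W`
    have hR2 : IsPGroup 2 (T ⊔ zpowers γ : Subgroup G) := by
      have hle : T ⊔ zpowers γ ≤ (S : Subgroup L).map L.subtype := by
        refine sup_le (fun t ht => ⟨⟨t, hTL ht⟩, hS (mem_subgroupOf.2 ht), rfl⟩) ?_
        exact zpowers_le.2 ⟨(g : L), g.2, rfl⟩
      exact (S.2.map L.subtype).to_le hle
    have hall : ∀ t ∈ (T ⊔ zpowers γ : Subgroup G), Commute t z ∧ Fix W t := by
      have hle : T ⊔ zpowers γ ≤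
          centralizer ({z} : Set G) ⊓ centralizer W :=
        sup_le (fun t ht => ⟨mem_centralizer_singleton_iff.2 (hTW t ht).1.eq,
          mem_centralizer_iff.2 fun w hw => ((hTW t ht).2 w hw).symm⟩)
          (zpowers_le.2 ⟨mem_centralizer_singleton_iff.2 hgz.eq,
            mem_centralizer_iff.2 fun w hw => ((g : L).2.2 w hw).symm⟩)
      exact fun t ht => ⟨mem_centralizer_singleton_iff.1 (hle ht).1,
        fun w hw => (mem_centralizer_iff.1 (hle ht).2 w hw).symm⟩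
    have hγT : γ ∈ T := hTmax _ hR2 le_sup_left hall (le_sup_right (a := T) (mem_zpowers γ))
    exact hgT (mem_subgroupOf.2 (mem_subgroupOf.2 hγT))
  have hxp : IsPGroup 2 (zpowers (⟨x, hx, hxW⟩ : L)) := by
    obtain ⟨j, -, hj⟩ := (Nat.dvd_prime_pow Nat.prime_two).1
      (orderOf_dvd_iff_pow_eq_one.2 (show (⟨x, hx, hxW⟩ : L) ^ (2 ^ 1) = 1 by
        rw [pow_one, pow_two]; exact Subtype.ext hx2))
    exact IsPGroup.of_card (n := j) (by rw [Nat.card_zpowers, hj])
  obtain ⟨S', hS'⟩ := hxp.exists_le_sylow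
  obtain ⟨m, hm⟩ := MulAction.exists_smul_eq L S' S
  have hmem : m * ⟨x, hx, hxW⟩ * m⁻¹ ∈ (S : Subgroup L) := by
    rw [← hm, Transfer.sylow_coe_smul]
    exact ⟨_, hS' (mem_zpowers _), rfl⟩
  rw [hST, mem_subgroupOf] at hmem
  exact ⟨m, m.2.1, m.2.2, (hTW _ hmem).1⟩

/-- The facts needed inside `C(z)`. -/
structure Facts (z a b y : G) : Prop where
  order_z : orderOf z = 2
  order_b : orderOf b = 2
  comm_b : Commute b z
  cls : ∀ x : G, Commute x z → orderOf x = 2 → x = z ∨ (∃ c, Commute c z ∧ c * x * c⁻¹ = a) ∨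
    ∃ c, Commute c z ∧ c * x * c⁻¹ = b
  pos_a : IsConj z a
  neg_b : ¬ IsConj z b
  neg_zb : ¬ IsConj z (z * b)
  order_y : orderOf y = 2
  comm_yz : Commute y z
  comm_yb : Commute y b
  y_ne : y ≠ b
  neg_y : ¬ IsConj z y
  neg_yb : ¬ IsConj z (y * b)
  node : ∀ x : G, Commute x z → Commute x b → orderOf x = 2 → x = b ∨ IsConj z x ∨ IsConj z (x * b) ∨
    ∃ d, Commute d z ∧ Commute d b ∧ (d * x * d⁻¹ = y ∨ d * x * d⁻¹ = y * b)
  uniq_empty : Uniq (∅ : Set G) z
  uniq_b : Uniq ({b} : Set G) z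
  loc : (∀ u : G, IsConj z u → Commute u b → Commute u y →
      ∀ v : G, Commute v u → Commute v b → Commute v y → Odd (orderOf v) → v = 1) → LocalData z b y
  card32 : {c : G | Commute c z ∧ Commute c b ∧ Commute c y}.ncard = 32

namespace Facts

variable {z a b y : G}

theorem b_sq (h : Facts z a b y) : b * b = 1 := by rw [← pow_two, ← h.order_b, pow_orderOf_eq_one]

theorem y_sq (h : Facts z a b y) : y * y = 1 := by rw [← pow_two, ← h.order_y, pow_orderOf_eq_one]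

/-- An involution of `C(z)` not conjugate to `z` is conjugate to `b` under `C(z)`. -/
theorem conj_b (h : Facts z a b y) {x : G} (hx : Commute x z) (h2 : orderOf x = 2) (hn : ¬ IsConj z x) :
    ∃ c, Commute c z ∧ c * x * c⁻¹ = b := by
  rcases h.cls x hx h2 with rfl | ⟨c, -, hc⟩ | hb
  · exact absurd (IsConj.refl x) hn
  · exact absurd (h.pos_a.trans (isConj_iff.2 ⟨c, hc⟩).symm) hn
  · exact hb

/-- Conjugation data of a pair like `(b, y)`. -/
theorem conj_pair (h : Facts z a b y) {x : G} (hz : Commute x z) (hb : Commute x b) (h2 : orderOf x = 2)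
    (hne : x ≠ b) (hn : ¬ IsConj z x) (hnb : ¬ IsConj z (x * b)) :
    ∃ d, Commute d z ∧ Commute d b ∧ (d * x * d⁻¹ = y ∨ d * x * d⁻¹ = y * b) :=
  (((h.node x hz hb h2).resolve_left hne).resolve_left hn).resolve_left hnb

theorem commute_y_of {v : G} {x : G} (h : Facts z a b y) (hb : Commute v b) (hx : x = y ∨ x = y * b)
    (hv : Commute v x) : Commute v y := by
  rcases hx with rfl | rfl
  · exact hv
  · have := hv.mul_right hb
    rwa [mul_assoc, h.b_sq, mul_one] at this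

theorem two [Finite G] (h : Facts z a b y) {b' y' : G} (hb'2 : orderOf b' = 2) (hy'2 : orderOf y' = 2)
    (hne : b' ≠ y') (hcomm : Commute b' y') (hb' : ¬ IsConj z b') (hy' : ¬ IsConj z y')
    (hby' : ¬ IsConj z (y' * b')) :
    ∀ u : G, IsConj z u → Commute u b' → Commute u y' →
      ∀ v : G, Commute v u → Commute v b' → Commute v y' → Odd (orderOf v) → v = 1 := by
  intro u hu hub huy v hvu hvb hvy hodd
  obtain ⟨g, hg⟩ := isConj_iff.1 hu.symm
  have hmap : ∀ k x : G, MulAut.conj k x = k * x * k⁻¹ := fun _ _ => rfl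
  have hord : ∀ k x : G, orderOf (k * x * k⁻¹) = orderOf x := fun k x =>
    orderOf_injective (MulAut.conj k).toMonoidHom (MulAut.conj k).injective x
  have hcm : ∀ k x w : G, Commute x w → Commute (k * x * k⁻¹) (k * w * k⁻¹) := fun k x w hc => by
    rw [← hmap, ← hmap]; exact hc.map (MulAut.conj k).toMonoidHom
  have hnc : ∀ k x : G, ¬ IsConj z x → ¬ IsConj z (k * x * k⁻¹) := fun k x hx e =>
    hx (e.trans (isConj_iff.2 ⟨k⁻¹, by group⟩))
  obtain ⟨c, hcz, hcb⟩ := h.conj_b (x := g * b' * g⁻¹) (hg ▸ (hcm g _ _ hub).symm) ((hord g b').trans hb'2)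
    (hnc g b' hb')
  have hkb : (c * g) * b' * (c * g)⁻¹ = b := by rw [← hcb]; group
  have hku : (c * g) * u * (c * g)⁻¹ = z := by
    calc (c * g) * u * (c * g)⁻¹ = c * (g * u * g⁻¹) * c⁻¹ := by group
      _ = z := by rw [hg, hcz.eq, mul_inv_cancel_right]
  obtain ⟨d, hdz, hdb, hdy⟩ := h.conj_pair (x := (c * g) * y' * (c * g)⁻¹) (hku ▸ (hcm _ _ _ huy).symm)
    (hkb ▸ (hcm _ _ _ hcomm).symm) ((hord _ y').trans hy'2)
    (fun e => hne (by
      have h1 := hkb.trans e.symm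
      exact (MulAut.conj (c * g)).injective h1))
    (hnc _ y' hy') (by
      rw [← hkb, show c * g * y' * (c * g)⁻¹ * (c * g * b' * (c * g)⁻¹) = c * g * (y' * b') * (c * g)⁻¹ by group]
      exact hnc _ _ hby')
  have hpz : d * (c * g) * u * (d * (c * g))⁻¹ = z := by
    calc d * (c * g) * u * (d * (c * g))⁻¹ = d * (c * g * u * (c * g)⁻¹) * d⁻¹ := by group
      _ = z := by rw [hku, hdz.eq, mul_inv_cancel_right]
  have hpb : d * (c * g) * b' * (d * (c * g))⁻¹ = b := by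
    calc d * (c * g) * b' * (d * (c * g))⁻¹ = d * (c * g * b' * (c * g)⁻¹) * d⁻¹ := by group
      _ = b := by rw [hkb, hdb.eq, mul_inv_cancel_right]
  set p := d * (c * g) with hp
  have e1 : Commute (p * v * p⁻¹) z := hpz ▸ hcm p _ _ hvu
  have e2 : Commute (p * v * p⁻¹) b := hpb ▸ hcm p _ _ hvb
  have e3 : Commute (p * v * p⁻¹) y := by
    refine h.commute_y_of e2 hdy ?_
    rw [show d * (c * g * y' * (c * g)⁻¹) * d⁻¹ = p * y' * p⁻¹ by rw [hp]; group]
    exact hcm p _ _ hvy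
  -- the common centraliser of `z, b, y` is a 2-group
  let T : Subgroup G := centralizer ({z, b, y} : Set G)
  have hT : (T : Set G) = {c : G | Commute c z ∧ Commute c b ∧ Commute c y} := by
    ext w
    simp only [T, SetLike.mem_coe, mem_centralizer_iff, Set.mem_insert_iff, Set.mem_singleton_iff,
      forall_eq_or_imp, forall_eq, Set.mem_ofPred_eq]
    exact ⟨fun h => ⟨h.1.symm, h.2.1.symm, h.2.2.symm⟩, fun h => ⟨h.1.symm, h.2.1.symm, h.2.2.symm⟩⟩
  have hmemT : p * v * p⁻¹ ∈ T := by rw [← SetLike.mem_coe, hT]; exact ⟨e1, e2, e3⟩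
  have hdvd := orderOf_dvd_natCard T hmemT
  rw [show Nat.card T = (T : Set G).ncard from Nat.card_coe_set_eq _, hT, h.card32, hord] at hdvd
  have h1 : orderOf v = 1 :=
    Nat.eq_one_of_dvd_coprimes ((Nat.coprime_two_right.2 hodd).pow_right 5) dvd_rfl (by simpa using hdvd)
  exact orderOf_eq_one_iff.1 h1

theorem localData [Finite G] (h : Facts z a b y) : LocalData z b y :=
  h.loc (h.two h.order_b h.order_y h.y_ne.symm h.comm_yb.symm h.neg_b h.neg_y h.neg_yb)

/-- The setting of the closing step. -/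
theorem setting [Finite G] (h : Facts z a b y) {H : Subgroup G} (hC : ∀ c : G, Commute c z → c ∈ H)
    (hswap : ∃ k ∈ H, k * z * k⁻¹ = a) : Setting H z := by
  refine ⟨hC, fun g hg => ?_⟩
  have hz2 : z * z = 1 := by rw [← pow_two, ← h.order_z, pow_orderOf_eq_one]
  have h2 : g * z * g⁻¹ * (g * z * g⁻¹) = 1 := by
    calc g * z * g⁻¹ * (g * z * g⁻¹) = g * (z * z) * g⁻¹ := by group
      _ = 1 := by rw [hz2]; group
  obtain ⟨k, hk, -, hkc⟩ := h.uniq_empty.exists_conj hC hg (fun w hw => absurd hw (Set.notMem_empty w)) h2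
  have hord : orderOf (k * (g * z * g⁻¹) * k⁻¹) = 2 :=
    ((orderOf_injective (MulAut.conj k).toMonoidHom (MulAut.conj k).injective (g * z * g⁻¹)).trans
      (orderOf_injective (MulAut.conj g).toMonoidHom (MulAut.conj g).injective z)).trans h.order_z
  rcases h.cls _ hkc hord with e | ⟨c, hc, e⟩ | ⟨c, -, e⟩
  · exact ⟨k⁻¹, H.inv_mem hk, by
      calc k⁻¹ * z * k⁻¹⁻¹ = k⁻¹ * (k * (g * z * g⁻¹) * k⁻¹) * k := by rw [e]; group
        _ = g * z * g⁻¹ := by group⟩
  · obtain ⟨s, hs, hsa⟩ := hswap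
    exact ⟨k⁻¹ * c⁻¹ * s, H.mul_mem (H.mul_mem (H.inv_mem hk) (H.inv_mem (hC c hc))) hs, by
      calc k⁻¹ * c⁻¹ * s * z * (k⁻¹ * c⁻¹ * s)⁻¹ = k⁻¹ * c⁻¹ * (s * z * s⁻¹) * c * k := by group
        _ = g * z * g⁻¹ := by rw [hsa, ← e]; group⟩
  · exact absurd (isConj_iff.2 ⟨c * k * g, by
      calc c * k * g * z * (c * k * g)⁻¹ = c * (k * (g * z * g⁻¹) * k⁻¹) * c⁻¹ := by group
        _ = b := e⟩) h.neg_b

/-- The local data inside an overgroup of `C(z)`. -/
theorem localData_restrict [Finite G] (h : Facts z a b y) {H : Subgroup G} (S : Setting H z)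
    (hzH : z ∈ H) (hbH : b ∈ H) (hyH : y ∈ H) :
    LocalData (⟨z, hzH⟩ : H) ⟨b, hbH⟩ ⟨y, hyH⟩ := by
  have L := h.localData
  have hcm : ∀ u w : H, Commute u w ↔ Commute (u : G) w :=
    fun u w => ⟨fun e => congrArg Subtype.val e.eq, fun e => Subtype.ext e.eq⟩
  have hneg : ∀ u w : H, ¬ IsConj (u : G) w → ¬ IsConj u w := fun u w e e' => e (H.subtype.map_isConj e')
  have hpos : ∀ u : H, IsConj z (u : G) → IsConj (⟨z, hzH⟩ : H) u := fun u e => by
    obtain ⟨g, hg⟩ := isConj_iff.1 e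
    obtain ⟨k, hk, hke⟩ := S.fuse g (hg ▸ u.2)
    exact isConj_iff.2 ⟨⟨k, hk⟩, Subtype.ext (by push_cast; rw [hke, hg])⟩
  have hIn : ∀ v : H, InV (⟨b, hbH⟩ : H) ⟨y, hyH⟩ v ↔ InV b y (v : G) := fun v => by
    simp only [InV, Subtype.ext_iff, coe_mul, coe_one]
  obtain ⟨c, τ, ⟨hcz, hcb, hcy⟩, ⟨hτz, hτb, hτy⟩, hcc, hττ, hPc, hPzc, hcne, hτV, hτP, hinv⟩ := L.marks
  have hcH := S.cent c hcz.eq
  have hτH := S.cent τ hτz.eq
  refine ⟨(orderOf_coe _).symm.trans L.order_z, (orderOf_coe _).symm.trans L.order_b,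
    (orderOf_coe _).symm.trans L.order_y, fun e => L.ne (congrArg Subtype.val e), (hcm _ _).2 L.comm,
    (hcm _ _).2 L.comm_zb, (hcm _ _).2 L.comm_zy, ?_, ?_, ?_, ?_, ?_,
    ⟨⟨c, hcH⟩, ⟨τ, hτH⟩, ⟨(hcm _ _).2 hcz, (hcm _ _).2 hcb, (hcm _ _).2 hcy⟩,
      ⟨(hcm _ _).2 hτz, (hcm _ _).2 hτb, (hcm _ _).2 hτy⟩, Subtype.ext hcc, Subtype.ext hττ, hpos _ hPc,
      hpos (⟨z, hzH⟩ * ⟨c, hcH⟩) hPzc, fun v hv e => hcne v ((hIn v).1 hv) (congrArg Subtype.val e),
      fun e => hτV ((hIn _).1 e), fun v hv => hneg _ _ (hτP v ((hIn v).1 hv)), ?_⟩, ?_⟩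
  · rw [← L.card, ← Set.ncard_image_of_injective _ (Subtype.val_injective (p := (· ∈ H)))]
    congr 1
    ext w
    simp only [Set.mem_image, Set.mem_ofPred_eq]
    constructor
    · rintro ⟨w, ⟨h1, h2, h3⟩, rfl⟩
      exact ⟨(hcm _ _).1 h1, (hcm _ _).1 h2, (hcm _ _).1 h3⟩
    · rintro ⟨h1, h2, h3⟩
      exact ⟨⟨w, S.cent w h1.eq⟩, ⟨(hcm _ _).2 h1, (hcm _ _).2 h2, (hcm _ _).2 h3⟩, rfl⟩
  · obtain ⟨r, hrb, hry, hr⟩ := L.root
    exact ⟨⟨r, S.cent r (by rw [← hr, mul_assoc])⟩, (hcm _ _).2 hrb, (hcm _ _).2 hry, Subtype.ext hr⟩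
  · intro w h1 h2 h3
    rcases L.squares w ((hcm _ _).1 h1) ((hcm _ _).1 h2) ((hcm _ _).1 h3) with e | e
    · exact Or.inl (Subtype.ext e)
    · exact Or.inr (Subtype.ext e)
  · exact fun v hv hv1 => hneg _ _ (L.neg v ((hIn v).1 hv) fun e => hv1 (Subtype.ext e))
  · exact fun v hv => hneg _ _ (L.negV v ((hIn v).1 hv))
  · intro w h1 h2 h3 h4
    obtain ⟨v, hv, hw⟩ := hinv w ((hcm _ _).1 h1) ((hcm _ _).1 h2) ((hcm _ _).1 h3) (congrArg Subtype.val h4)
    have hvH : v ∈ H := by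
      rcases hv with rfl | rfl | rfl | rfl
      exacts [H.one_mem, hbH, hyH, H.mul_mem hbH hyH]
    refine ⟨⟨v, hvH⟩, (hIn _).2 hv, ?_⟩
    simpa only [Subtype.ext_iff, coe_mul] using hw
  · intro u hu hub huy v hvu hvb hvy hodd
    exact Subtype.ext (L.two u (H.subtype.map_isConj hu) ((hcm _ _).1 hub) ((hcm _ _).1 huy) v
      ((hcm _ _).1 hvu) ((hcm _ _).1 hvb) ((hcm _ _).1 hvy) ((orderOf_coe v).symm ▸ hodd))

/-- Two groups of order 480. -/
theorem centralizer_by_le [Finite G] (h : Facts z a b y) {H : Subgroup G} (S : Setting H z)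
    (h5 : ∃ x ∈ H, orderOf x = 5 ∧ Commute x b ∧ Commute x y) :
    ∀ c : G, Commute c b → Commute c y → c ∈ H := by
  obtain ⟨x, hxH, hx5, hxb, hxy⟩ := h5
  have hzH : z ∈ H := S.cent z rfl
  have hbH : b ∈ H := S.cent b h.comm_b.eq
  have hyH : y ∈ H := S.cent y h.comm_yz.eq
  have hmem : ∀ c : G, Commute c b → Commute c y → c ∈ centralizer ({b, y} : Set G) := fun c h1 h2 => by
    simp only [mem_centralizer_iff, Set.mem_insert_iff, Set.mem_singleton_iff, forall_eq_or_imp, forall_eq]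
    exact ⟨h1.symm, h2.symm⟩
  have h1 := h.localData.card_eq (hx5 ▸ orderOf_dvd_natCard _ (hmem x hxb hxy))
  have hxK : (⟨x, hxH⟩ : H) ∈ centralizer ({⟨b, hbH⟩, ⟨y, hyH⟩} : Set H) := by
    simp only [mem_centralizer_iff, Set.mem_insert_iff, Set.mem_singleton_iff, forall_eq_or_imp, forall_eq]
    exact ⟨Subtype.ext hxb.symm.eq, Subtype.ext hxy.symm.eq⟩
  have h2 := (h.localData_restrict S hzH hbH hyH).card_eq
    ((show orderOf (⟨x, hxH⟩ : H) = 5 from (orderOf_mk x hxH).trans hx5) ▸ orderOf_dvd_natCard _ hxK)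
  have hle : (centralizer ({⟨b, hbH⟩, ⟨y, hyH⟩} : Set H)).map H.subtype ≤ centralizer ({b, y} : Set G) := by
    rintro _ ⟨w, hw, rfl⟩
    simp only [SetLike.mem_coe, mem_centralizer_iff, Set.mem_insert_iff, Set.mem_singleton_iff,
      forall_eq_or_imp, forall_eq] at hw
    exact hmem _ (congrArg Subtype.val hw.1).symm (congrArg Subtype.val hw.2).symm
  have heq := eq_of_le_of_card_ge hle (le_of_eq (h1.trans (h2.symm.trans
    (Nat.card_congr (equivMapOfInjective _ _ H.subtype_injective).toEquiv))))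
  intro c hcb hcy
  obtain ⟨w, -, rfl⟩ := heq.ge (hmem c hcb hcy)
  exact w.2

/-- A witness anywhere in `H` gives one at `b` and `y`. -/
theorem five_at [Finite G] (h : Facts z a b y) {H : Subgroup G} (hC : ∀ c : G, Commute c z → c ∈ H)
    {b' y' x : G} (hbH : b' ∈ H) (hyH : y' ∈ H) (hxH : x ∈ H) (hb2 : orderOf b' = 2) (hy2 : orderOf y' = 2)
    (hne : b' ≠ y') (hcomm : Commute b' y') (hb : ¬ IsConj z b') (hy : ¬ IsConj z y')
    (hby : ¬ IsConj z (y' * b')) (hx5 : orderOf x = 5) (hxb : Commute x b') (hxy : Commute x y') :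
    ∃ x ∈ H, orderOf x = 5 ∧ Commute x b ∧ Commute x y := by
  have hnc : ∀ k w : G, ¬ IsConj z w → ¬ IsConj z (k * w * k⁻¹) := fun k w hw e =>
    hw (e.trans (isConj_iff.2 ⟨k⁻¹, by group⟩))
  have hord : ∀ k w : G, orderOf (k * w * k⁻¹) = orderOf w := fun k w =>
    orderOf_injective (MulAut.conj k).toMonoidHom (MulAut.conj k).injective w
  have hcm : ∀ k u w : G, Commute u w → Commute (k * u * k⁻¹) (k * w * k⁻¹) := fun k u w hc =>
    hc.map (MulAut.conj k).toMonoidHom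
  have hsq : ∀ w : G, orderOf w = 2 → w * w = 1 := fun w hw => by rw [← pow_two, ← hw, pow_orderOf_eq_one]
  obtain ⟨k, hk, -, hkz⟩ := h.uniq_empty.exists_conj hC hbH (fun w hw => absurd hw (Set.notMem_empty w))
    (hsq b' hb2)
  obtain ⟨c, hc, hcb⟩ := h.conj_b hkz ((hord k b').trans hb2) (hnc k b' hb)
  have hq : c * k * b' * (c * k)⁻¹ = b := by rw [← hcb]; group
  have hqH : c * k ∈ H := H.mul_mem (hC c hc) hk
  obtain ⟨l, hl, hlb, hlz⟩ := h.uniq_b.exists_conj hC (H.mul_mem (H.mul_mem hqH hyH) (H.inv_mem hqH))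
    (fun w hw => by rw [Set.mem_singleton_iff] at hw; subst hw; exact (hq ▸ (hcm _ _ _ hcomm).symm).eq)
    (hsq _ ((hord _ y').trans hy2))
  have hp : l * (c * k) * b' * (l * (c * k))⁻¹ = b := by
    calc l * (c * k) * b' * (l * (c * k))⁻¹ = l * (c * k * b' * (c * k)⁻¹) * l⁻¹ := by group
      _ = b := by rw [hq, hlb b rfl, mul_inv_cancel_right]
  have hlz' : Commute (l * (c * k) * y' * (l * (c * k))⁻¹) z := by
    rw [show l * (c * k) * y' * (l * (c * k))⁻¹ = l * (c * k * y' * (c * k)⁻¹) * l⁻¹ by group]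
    exact hlz
  set p := l * (c * k) with hpdef
  obtain ⟨d, hdz, hdb, hdy⟩ := h.conj_pair hlz' (hp ▸ (hcm p _ _ hcomm).symm) ((hord p y').trans hy2)
    (fun e => hne ((MulAut.conj p).injective (hp.trans e.symm :))) (hnc p y' hy) (by
      rw [← hp, show p * y' * p⁻¹ * (p * b' * p⁻¹) = p * (y' * b') * p⁻¹ by group]
      exact hnc _ _ hby)
  have hdp : d * p * b' * (d * p)⁻¹ = b := by
    calc d * p * b' * (d * p)⁻¹ = d * (p * b' * p⁻¹) * d⁻¹ := by group
      _ = b := by rw [hp, hdb.eq, mul_inv_cancel_right]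
  have hdpH : d * p ∈ H := H.mul_mem (hC d hdz) (H.mul_mem hl hqH)
  have e2 : Commute (d * p * x * (d * p)⁻¹) b := hdp ▸ hcm _ _ _ hxb
  refine ⟨d * p * x * (d * p)⁻¹, H.mul_mem (H.mul_mem hdpH hxH) (H.inv_mem hdpH), (hord _ x).trans hx5, e2,
    h.commute_y_of e2 hdy ?_⟩
  rw [show d * (p * y' * p⁻¹) * d⁻¹ = d * p * y' * (d * p)⁻¹ by group]
  exact hcm _ _ _ hxy

/-- **The closing step.** -/
theorem eq_top [Finite G] (h : Facts z a b y) {H : Subgroup G} (hC : ∀ c : G, Commute c z → c ∈ H)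
    (hswap : ∃ k ∈ H, k * z * k⁻¹ = a) (h5 : ∃ x ∈ H, orderOf x = 5 ∧ Commute x b ∧ Commute x y) :
    H = ⊤ := by
  have S := h.setting hC hswap
  have hzz : z * z = 1 := by rw [← pow_two, ← h.order_z, pow_orderOf_eq_one]
  have hord : ∀ k w : G, orderOf (k * w * k⁻¹) = orderOf w := fun k w =>
    orderOf_injective (MulAut.conj k).toMonoidHom (MulAut.conj k).injective w
  have hby := h.centralizer_by_le S h5
  -- the centraliser of `b`
  have hFix : ∀ w : G, Fix ({b} : Set G) w ↔ Commute w b := fun w =>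
    ⟨fun e => e b rfl, fun e v hv => by rw [Set.mem_singleton_iff] at hv; subst hv; exact e.eq⟩
  have hz : ∀ w ∈ H, Fix ({b} : Set G) w → w ^ 2 = 1 →
      ∃ v ∈ H, Fix ({b} : Set G) v ∧ IsConj z v ∧ v * w = w * v := by
    intro w hw hwb hw2
    obtain ⟨k, hk, hkb, hkz⟩ := h.uniq_b.exists_conj hC hw hwb (by rw [← pow_two, hw2])
    refine ⟨k⁻¹ * z * k, H.mul_mem (H.mul_mem (H.inv_mem hk) (hC z rfl)) hk,
      (hkb.inv.mul ((hFix z).2 h.comm_b.symm)).mul hkb, isConj_iff.2 ⟨k⁻¹, by group⟩, ?_⟩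
    have hcm := hkz.map (MulAut.conj k⁻¹).toMonoidHom
    simpa [mul_assoc] using hcm.symm.eq
  have hsafe_y : ∀ x : G, Commute x z → Commute x b → orderOf x = 2 →
      (∃ d, Commute d z ∧ Commute d b ∧ (d * x * d⁻¹ = y ∨ d * x * d⁻¹ = y * b)) → Safe H ({b} : Set G) x := by
    rintro x hxz hxb hx2 ⟨d, hdz, hdb, hdy⟩
    refine Safe.of_centralizer S (hC x hxz) ((hFix x).2 hxb) (by rw [← hx2]; exact pow_orderOf_eq_one x) ?_ hz
    intro c hc hcx
    have e1 : Commute (d * c * d⁻¹) b := by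
      have := Commute.map (show Commute c b from (hFix c).1 hc) (MulAut.conj d).toMonoidHom
      simpa [hdb.eq] using this
    have e2 : Commute (d * c * d⁻¹) y := h.commute_y_of e1 hdy
      (Commute.map (show Commute c x from hcx) (MulAut.conj d).toMonoidHom)
    have hdH := hC d hdz
    have := H.mul_mem (H.mul_mem (H.inv_mem hdH) (hby _ e1 e2)) hdH
    simpa [mul_assoc] using this
  have hCb : ∀ c : G, Commute c b → c ∈ H := by
    intro c hcb
    refine TransvCent.Closing.centralizer_le_of_pair (W := ({b} : Set G))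
      (Safe.of_isConj S (hC z rfl) ((hFix z).2 h.comm_b.symm) (IsConj.refl z)) hzz
      (hsafe_y y h.comm_yz h.comm_yb h.order_y ⟨1, Commute.one_left _, Commute.one_left _, by simp⟩) h.y_sq
      (fun k _ _ e => h.neg_y (isConj_iff.2 ⟨k, e⟩)) ?_ ?_ c ((hFix c).2 hcb)
    · intro w hw hwb hw2 hwz
      have hxb := (hFix w).1 hwb
      rcases h.node w hwz hxb hw2 with e | e | e | e
      · exact Or.inl e
      · exact Or.inr (Safe.of_isConj S hw hwb e)
      · exact Or.inr (Safe.of_mul S hw hwb rfl (hC b h.comm_b) e)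
      · exact Or.inr (hsafe_y w hwz hxb hw2 e)
    · intro w hw _
      rw [Set.mem_singleton_iff] at hw
      subst hw
      exact ⟨fun k _ _ => Or.inl fun e => h.neg_zb (isConj_iff.2 ⟨k, e⟩),
        fun k _ _ => Or.inl fun e => h.neg_yb (isConj_iff.2 ⟨k, e⟩)⟩
  refine TransvCent.Closing.eq_top_of_pair S (hC z rfl) hzz (hC b h.comm_b) h.b_sq h.neg_b
    (fun c hc => hCb c hc) ?_ ?_
  · intro x _ hx2 hxz
    rcases h.cls x hxz hx2 with e | ⟨c, -, e⟩ | ⟨c, hc, e⟩
    · exact Or.inl (e ▸ IsConj.refl z)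
    · exact Or.inl (h.pos_a.trans (isConj_iff.2 ⟨c, e⟩).symm)
    · refine Or.inr fun k hk => ?_
      have : Commute (c * k * c⁻¹) b := e ▸ Commute.map (show Commute k x from hk) (MulAut.conj c).toMonoidHom
      have := H.mul_mem (H.mul_mem (H.inv_mem (hC c hc)) (hCb _ this)) (hC c hc)
      simpa [mul_assoc] using this
  · intro w hw hw2
    obtain ⟨k, hk, -, hkz⟩ := h.uniq_empty.exists_conj hC hw (fun v hv => absurd hv (Set.notMem_empty v))
      (by rw [← pow_two, hw2])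
    refine ⟨k⁻¹ * z * k, H.mul_mem (H.mul_mem (H.inv_mem hk) (hC z rfl)) hk, isConj_iff.2 ⟨k⁻¹, by group⟩, ?_⟩
    have hcm := hkz.map (MulAut.conj k⁻¹).toMonoidHom
    simpa [mul_assoc] using hcm.symm.eq

end Facts

end Cfsg.Agent.CoThreeClose
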